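import Cfsg.Agent.H533.Wf.Kills

/-!
# S3826: transport of the component kill to a model of the socle (helper313, task 4025)

* `QS.map`, `QS.of_hom` : quasisimple subgroups under homomorphisms;
* `Ind e g φ` : the automorphism `φ` of the model is induced by `g`;
* `LP L φ` : `φ` maps `L` to itself and moves an element of `L`;
* `false_of_LP` : the kill.
-/

set_option autoImplicit false
set_option linter.unusedSectionVars false

namespace Cfsg.Agent.H313.WfOm

universe u v

open Subgroup Cfsg Cfsg.Agent.H533.Wf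

open scoped commutatorElement

section qs

variable {P : Type v} [Group P] {G : Type u} [Group G]

theorem QS.map {L : Subgroup P} (hL : QS L) (f : P →* G) (hf : Function.Injective f) :
    QS (L.map f) := by
  refine ⟨?_, ?_, ?_⟩
  · rw [← Subgroup.map_commutator, hL.perfect]
  · intro h
    exact hL.ne ((Subgroup.map_eq_bot_iff_of_injective _ hf).1 h)
  · intro N hN hn
    have h1 : N.comap f ≤ L := by
      intro x hx
      obtain ⟨y, hy, hyx⟩ := hN hx
      rwa [← hf hyx]
    have hmap : (N.comap f).map f = N := by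
      rw [Subgroup.map_comap_eq]
      refine inf_eq_right.2 (hN.trans ?_)
      exact Subgroup.map_le_range f L
    have h2 : L ≤ Subgroup.normalizer ((N.comap f : Subgroup P) : Set P) := by
      intro l hl
      rw [Subgroup.mem_normalizer_iff]
      intro x
      have h3 := Subgroup.mem_normalizer_iff.1 (hn (Subgroup.mem_map_of_mem f hl)) (f x)
      rw [← map_mul, ← map_inv, ← map_mul] at h3
      exact h3
    rcases hL.norm _ h1 h2 with h | h
    · left
      rw [← hmap, h]
    · right
      rw [← hmap]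
      rintro _ ⟨x, hx, rfl⟩
      rw [Subgroup.mem_centralizer_iff]
      rintro _ ⟨l, hl, rfl⟩
      have := Subgroup.mem_centralizer_iff.1 (h hx) l hl
      rw [← map_mul, this, map_mul]

/-- images of perfect groups which are simple modulo the centre -/
theorem QS.of_hom {E : Type v} [Group E] (f : E →* G) (hp : commutator E = ⊤)
    (hs : IsSimpleGroup (E ⧸ Subgroup.center E)) (hne : f.range ≠ ⊥) : QS f.range := by
  refine ⟨?_, hne, ?_⟩
  · have h1 := Subgroup.map_commutator (⊤ : Subgroup E) ⊤ f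
    rw [← commutator_def, hp, ← MonoidHom.range_eq_map] at h1
    exact h1.symm
  · intro N hN hn
    have hN' : (N.comap f).Normal := by
      constructor
      intro x hx g
      have h3 := Subgroup.mem_normalizer_iff.1 (hn ⟨g, rfl⟩) (f x)
      rw [Subgroup.mem_comap, map_mul, map_mul, map_inv]
      exact h3.1 hx
    have hmap : (N.comap f).map f = N := by
      rw [Subgroup.map_comap_eq]
      exact inf_eq_right.2 hN
    have h2 : ((N.comap f).map (QuotientGroup.mk' (Subgroup.center E))).Normal :=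
      hN'.map _ (QuotientGroup.mk'_surjective _)
    rcases h2.eq_bot_or_eq_top with h | h
    · right
      rw [Subgroup.map_eq_bot_iff, QuotientGroup.ker_mk'] at h
      rw [← hmap]
      rintro _ ⟨x, hx, rfl⟩
      rw [Subgroup.mem_centralizer_iff]
      rintro _ ⟨l, rfl⟩
      have := (Subgroup.mem_center_iff.1 (h hx)) l
      rw [← map_mul, this, map_mul]
    · left
      have h3 : commutator E ≤ N.comap f := by
        rw [commutator_def, Subgroup.commutator_le]
        have key : ∀ a : E, ∃ n ∈ N.comap f, ∃ z ∈ Subgroup.center E, a = n * z := by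
          intro a
          have h4 : QuotientGroup.mk' (Subgroup.center E) a ∈
              (N.comap f).map (QuotientGroup.mk' (Subgroup.center E)) := by
            rw [h]; exact Subgroup.mem_top _
          obtain ⟨n, hn1, hn2⟩ := h4
          refine ⟨n, hn1, n⁻¹ * a, ?_, by group⟩
          exact QuotientGroup.eq.1 hn2
        intro a _ b _
        obtain ⟨n, hn1, z, hz, rfl⟩ := key a
        obtain ⟨m, hm1, w, hw, rfl⟩ := key b
        have hz' := Subgroup.mem_center_iff.1 hz
        have hw' := Subgroup.mem_center_iff.1 hw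
        have e1 : ⁅n * z, m * w⁆ = ⁅n, m⁆ := by
          rw [commutatorElement_def, commutatorElement_def, mul_inv_rev, mul_inv_rev]
          have e2 : n * z * (m * w) * (z⁻¹ * n⁻¹) * (w⁻¹ * m⁻¹) =
              n * (z * (m * w) * z⁻¹) * n⁻¹ * (w⁻¹ * m⁻¹) := by group
          have e3 : z * (m * w) * z⁻¹ = m * w := by rw [← hz']; group
          have e4 : n * (m * w) * n⁻¹ * (w⁻¹ * m⁻¹) = n * m * (w * n⁻¹ * w⁻¹) * m⁻¹ := by group
          have e5 : w * n⁻¹ * w⁻¹ = n⁻¹ := by rw [← hw']; group
          rw [e2, e3, e4, e5]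
        rw [e1, commutatorElement_def]
        exact mul_mem (hN'.conj_mem' _ hn1 n |> fun _ => mul_mem (mul_mem hn1 hm1) (inv_mem hn1)) (inv_mem hm1)
      rw [hp, top_le_iff] at h3
      rw [← hmap, h3, MonoidHom.range_eq_map]

end qs

section main

variable {P : Type v} [Group P] {G : Type u} [Group G] {S : Subgroup G}

/-- `φ` is the automorphism of the model `P` of `S` induced by `g`. -/
def Ind (e : S ≃* P) (g : G) (φ : MulAut P) : Prop :=
  ∀ s s' : S, (s' : G) = g * s * g⁻¹ → φ (e s) = e s'

/-- `φ` maps `L` to itself and moves an element of `L`. -/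
structure LP (L : Subgroup P) (φ : MulAut P) : Prop where
  maps : ∀ l ∈ L, φ l ∈ L
  moves : ∃ l ∈ L, φ l ≠ l

theorem exists_ind (hn : S.Normal) (e : S ≃* P) (g : G) : ∃ φ : MulAut P, Ind e g φ := by
  refine ⟨(e.symm.trans (MulAut.conjNormal g)).trans e, fun s s' hs => ?_⟩
  have h1 : (MulAut.conjNormal g : MulAut S) s = s' := by
    apply Subtype.ext
    rw [MulAut.conjNormal_apply, hs]
  show e ((MulAut.conjNormal g : MulAut S) (e.symm (e s))) = e s'
  rw [e.symm_apply_apply, h1]

theorem Ind.mul {e : S ≃* P} (hn : S.Normal) {g k : G} {φ ψ : MulAut P} (h : Ind e g φ) (h' : Ind e k ψ) :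
    Ind e (g * k) (φ * ψ) := by
  intro s s' hs
  have h1 := h' s ⟨k * s * k⁻¹, hn.conj_mem s s.2 k⟩ rfl
  rw [MulAut.mul_apply, h1]
  exact h _ _ (by rw [hs]; group)

theorem Ind.inv {e : S ≃* P} (hn : S.Normal) {g : G} {φ : MulAut P} (h : Ind e g φ) : Ind e g⁻¹ φ⁻¹ := by
  intro s s' hs
  have h1 := h s' s (by rw [hs]; group)
  rw [← h1]
  exact φ.symm_apply_apply _

theorem Ind.pow {e : S ≃* P} (hn : S.Normal) {g : G} {φ : MulAut P} (h : Ind e g φ) (n : ℕ) :
    Ind e (g ^ n) (φ ^ n) := by
  induction n with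
  | zero =>
    intro s s' hs
    have : s' = s := Subtype.ext (by simpa using hs)
    rw [this, pow_zero]; rfl
  | succ n ih => rw [pow_succ, pow_succ]; exact ih.mul hn h

theorem Ind.conj {e : S ≃* P} (s : S) : Ind e (s : G) (MulAut.conj (e s)) := by
  intro t t' ht
  have : t' = s * t * s⁻¹ := Subtype.ext ht
  rw [this, MulAut.conj_apply, map_mul, map_mul, map_inv]

theorem Ind.unique {e : S ≃* P} (hn : S.Normal) {g : G} {φ ψ : MulAut P} (h : Ind e g φ) (h' : Ind e g ψ) :
    φ = ψ := by
  ext x
  obtain ⟨s, rfl⟩ := e.surjective x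
  rw [h s ⟨g * s * g⁻¹, hn.conj_mem s s.2 g⟩ rfl, h' s ⟨g * s * g⁻¹, hn.conj_mem s s.2 g⟩ rfl]

theorem Ind.ne_one {e : S ≃* P} (hn : S.Normal) (hc : Subgroup.centralizer (S : Set G) = ⊥) {g : G}
    (hg : g ≠ 1) {φ : MulAut P} (h : Ind e g φ) : φ ≠ 1 := by
  rintro rfl
  apply hg
  have h1 : g ∈ Subgroup.centralizer (S : Set G) := by
    rw [Subgroup.mem_centralizer_iff]
    intro s hs
    have h2 := h ⟨s, hs⟩ ⟨g * s * g⁻¹, hn.conj_mem s hs g⟩ rfl
    rw [MulAut.one_apply] at h2
    have h3 := congrArg Subtype.val (e.injective h2)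
    have h4 : s = g * s * g⁻¹ := h3
    calc s * g = (g * s * g⁻¹) * g := by rw [← h4]
      _ = g * s := by group
  rwa [hc, Subgroup.mem_bot] at h1

theorem Ind.orderOf_eq {e : S ≃* P} (hn : S.Normal) (hc : Subgroup.centralizer (S : Set G) = ⊥) {g : G}
    {p : ℕ} [hp : Fact p.Prime] (hg : orderOf g = p) {φ : MulAut P} (h : Ind e g φ) : orderOf φ = p := by
  apply orderOf_eq_prime
  · have h1 := h.pow hn p
    rw [← hg, pow_orderOf_eq_one] at h1
    have h2 : Ind e (1 : G) (1 : MulAut P) := by
      intro s s' hs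
      have : s' = s := Subtype.ext (by simpa using hs)
      rw [this]; rfl
    rw [← hg]
    exact h1.unique hn h2
  · refine h.ne_one hn hc ?_
    rintro rfl
    rw [orderOf_one] at hg
    exact hp.out.one_lt.ne hg

theorem mem_normalizer_of_maps [Finite G] {L : Subgroup G} {c : G} (h : ∀ x ∈ L, c * x * c⁻¹ ∈ L) :
    c ∈ Subgroup.normalizer (L : Set G) := by
  rw [Subgroup.mem_normalizer_iff]
  intro x
  refine ⟨h x, fun hx => ?_⟩
  have h1 : ∀ n : ℕ, ∀ y ∈ L, c ^ n * y * (c ^ n)⁻¹ ∈ L := by
    intro n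
    induction n with
    | zero => intro y hy; simpa using hy
    | succ n ih =>
      intro y hy
      have : c ^ (n + 1) * y * (c ^ (n + 1))⁻¹ = c * (c ^ n * y * (c ^ n)⁻¹) * c⁻¹ := by
        rw [pow_succ']; group
      rw [this]
      exact h _ (ih y hy)
  have h2 := h1 (orderOf c - 1) _ hx
  have h3 : c ^ (orderOf c - 1) = c⁻¹ := by
    rw [eq_inv_iff_mul_eq_one, ← pow_succ, Nat.sub_add_cancel (orderOf_pos c), pow_orderOf_eq_one]
  rw [h3] at h2
  simpa [mul_assoc] using h2

/-- **The component kill in the model.** -/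
theorem false_of_LP [Finite G] {p : ℕ} [Fact p.Prime] {C D : Set G} (h : Cfg p S C D) (e : S ≃* P)
    {L : Subgroup P} (hL : QS L) (hn : ¬ L.Normal) {c d : G} (hc : c ∈ C) (hd : d ∈ D)
    {φ ψ : MulAut P} (hφ : Ind e c φ) (hψ : Ind e d ψ) (hcL : LP L φ) (hdL : LP L ψ) : False := by
  set f : P →* G := S.subtype.comp e.symm.toMonoidHom with hf
  have hfi : Function.Injective f := S.subtype_injective.comp e.symm.injective
  have hfe : ∀ s : S, f (e s) = s := fun s => by
    show ((e.symm (e s) : S) : G) = s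
    rw [e.symm_apply_apply]
  have hconj : ∀ {g : G} {χ : MulAut P}, Ind e g χ → ∀ l : P, g * f l * g⁻¹ = f (χ l) := by
    intro g χ hχ l
    obtain ⟨s, rfl⟩ := e.surjective l
    rw [hχ s ⟨g * s * g⁻¹, h.normal.conj_mem s s.2 g⟩ rfl, hfe, hfe]
  have hmaps : ∀ {g : G} {χ : MulAut P}, Ind e g χ → LP L χ →
      g ∈ Subgroup.normalizer ((L.map f : Subgroup G) : Set G) ∧
      g ∉ Subgroup.centralizer ((L.map f : Subgroup G) : Set G) := by
    intro g χ hχ hLP
    refine ⟨mem_normalizer_of_maps ?_, ?_⟩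
    · rintro _ ⟨l, hl, rfl⟩
      rw [hconj hχ]
      exact ⟨_, hLP.maps l hl, rfl⟩
    · intro hcen
      obtain ⟨l, hl, hne⟩ := hLP.moves
      apply hne
      apply hfi
      rw [← hconj hχ]
      have := Subgroup.mem_centralizer_iff.1 hcen (f l) ⟨l, hl, rfl⟩
      rw [← this]; group
  refine h.false_of_component (L := L.map f) ?_ (QS.map hL f hfi) hc hd (hmaps hφ hcL).1 (hmaps hψ hdL).1
    (hmaps hφ hcL).2 (hmaps hψ hdL).2
  intro htop
  apply hn
  have h1 : (L.map f).Normal := Subgroup.normalizer_eq_top_iff.1 htop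
  have h2 : (L.map f).comap f = L := Subgroup.comap_map_eq_self_of_injective hfi L
  rw [← h2]
  infer_instance

end main

end Cfsg.Agent.H313.WfOm
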