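import Cfsg.Agent.H313.WfOm.Frame
import Cfsg.Agent.H862.T5.ORow
import Cfsg.Agent.ClassicalGeometry.OrthSemiForms
import Cfsg.Agent.H107.FixThreeRows

/-!
# S3826, orthogonal groups in cross characteristic (helper313, task 4025)

* `false_of_gam` : no minimal configuration contains a pair induced by semisimilitudes of a good
  space of dimension at least seven over a finite field of characteristic different from three;
* `TriRow` : the elements of `C` act as semisimilitudes on `PΩ⁺_8(q)` (helper174, task 4026);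
* `wf_omega_odd`, `wf_omega_minus`, `wf_omega_plus` (`m ≥ 5`), `wf_omega_four` (from `TriRow`),
  `wf_omega_cross`.
-/

set_option autoImplicit false
set_option linter.unusedSectionVars false

namespace Cfsg.Agent.H313.WfOm

universe u v w

open QuadraticMap Module Cfsg.Agent.LieClassical.OrthCore Cfsg.Agent.LieClassical.OrthTrans
open Cfsg.Agent.ClassicalGeometry.OrthSemi Cfsg.Agent.ClassicalGeometry.OrthAut1 Cfsg.Agent.H966.Frob
open Cfsg.Agent.H862.T5.OBase Cfsg.Agent.H862.T5.OFrame Cfsg.Agent.H862.T5.OMain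
open Cfsg.Agent.H957.T5V
open Cfsg.Agent.H208.Parity (ofO)
open Cfsg.Agent.H208.ConjSS (Psi_scal)
open Cfsg.Agent.H533.Wf (QS Cfg WfRow)

section pair

variable {F V : Type w} [Field F] [AddCommGroup V] [Module F V] {Q : QuadraticForm F V}

theorem iss_of_cov {U : Type*} [AddCommGroup U] [Module F U] {q : QuadraticForm F U} {j : U →ₗ[F] V}
    (hq : Nondeg q) (he : Emb Q q j) {x : Equiv.Perm V} {x' : Equiv.Perm U} (hx : Cov j x x')
    {σ : F ≃+* F} {c : F} (hX : IsSS Q σ c x) : IsSS q σ c x' := by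
  have hji := he.injective hq
  refine ⟨hX.ne, fun u v => ?_, fun a v => ?_, fun v => ?_⟩
  · apply hji
    rw [← hx, map_add, hX.add, hx, hx, map_add]
  · apply hji
    rw [← hx, map_smul, hX.smul, hx, map_smul]
  · rw [← he.form, ← hx, hX.form, he.form]

variable {G : Type u} [Group G] [Finite G] {S : Subgroup G} {C D : Set G}

theorem false_of_fr (h : Cfg 3 S C D) [Finite F] [FiniteDimensional F V] (hG : Good Q) (h3 : (3 : F) ≠ 0)
    (h7 : 7 ≤ finrank F V) (e : S ≃* P Q) {c d : G} (hc : c ∈ C) (hd : d ∈ D) (X Y : Gam Q)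
    (hX : Ind e c (Psi Q X)) (hY : Ind e d (Psi Q Y)) (fX : Fr Q (q6 F) X.1) (fY : Fr Q (q6 F) Y.1) : False := by
  have : Fact (Nat.Prime 3) := ⟨Nat.prime_three⟩
  obtain ⟨j₁, x', he₁, hx', hns⟩ := fX
  obtain ⟨j₂, y', he₂, hy', hns'⟩ := fY
  have hq := good_q6 h3
  obtain ⟨T, hT, g, hg, hTj⟩ := exists_common' hG hq.nondeg he₁ he₂ (by rw [finrank_q6]; norm_num)
  obtain ⟨π, hπ⟩ := exists_pr (Q := Q) (j := j₁) hq.nondeg
  have hl := hπ.left he₁ hq.nondeg
  obtain ⟨v, hv, hπv⟩ := exists_perp hG hq (π := π) (by rw [finrank_q6]; omega)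
  obtain ⟨σ, a, hXs⟩ := id X.2
  obtain ⟨τ, b, hYs⟩ := id Y.2
  -- the conjugate
  set t : S := e.symm (QuotientGroup.mk (⟨T, hT⟩ : E Q)) with ht
  have hn := h.normal
  have hT' : Ind e (t : G) (Psi Q (ofO T (E_le_O hT))) := by
    rw [Psi_E hT]
    have h1 := Ind.conj (e := e) t
    rw [ht, e.apply_symm_apply] at h1
    exact h1
  have hY' : Ind e ((t : G) * d * (t : G)⁻¹) (Psi Q (ofO T (E_le_O hT) * Y * (ofO T (E_le_O hT))⁻¹)) := by
    rw [map_mul, map_mul, map_inv]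
    exact (hT'.mul hn hY).mul hn (hT'.inv hn)
  have hcov : Cov j₁ (ofO T (E_le_O hT) * Y * (ofO T (E_le_O hT))⁻¹).1 (ofO g hg * y' * (ofO g hg)⁻¹).1 := by
    have h1 := Cov.left hy' T
    exact Cov.right (j₂ := T.toLinearMap ∘ₗ j₂) (fun u => hTj u) h1
  have hns2 : ¬ IsScal F (ofO g hg * y' * (ofO g hg)⁻¹).1 := by
    intro h1
    apply hns'
    have h2 := isScal_conj (semi_toA g⁻¹) h1
    have h3 : toA g⁻¹ * (ofO g hg * y' * (ofO g hg)⁻¹).1 * (toA g⁻¹)⁻¹ = y'.1 := by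
      have h4 : toA (V := Fin 3 × Fin 2 → F) (F := F) g⁻¹ = (toA g)⁻¹ := map_inv _ _
      rw [h4]
      show (toA g)⁻¹ * (toA g * y'.1 * (toA g)⁻¹) * (toA g)⁻¹⁻¹ = y'.1
      group
    rwa [h3] at h2
  obtain ⟨τ', b', hYs'⟩ := id (ofO T (E_le_O hT) * Y * (ofO T (E_le_O hT))⁻¹).2
  refine false_of_LP h e (qs_fP hG hq hl he₁ hπ hv hπv) (not_normal hG hq hl he₁ hπ hv hπv hπ) hc
    (h.conjD t d hd) hX hY' ?_ ?_
  · exact lp_fP hG hq hl he₁ hπ hv hπv X x' hx' hXs (iss_of_cov hq.nondeg he₁ hx' hXs) hns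
  · exact lp_fP hG hq hl he₁ hπ hv hπv _ _ hcov hYs' (iss_of_cov hq.nondeg he₁ hcov hYs') hns2

/-- normalised representatives -/
theorem exists_fr [Finite F] [FiniteDimensional F V] (hG : Good Q) (h3 : (3 : F) ≠ 0) (h7 : 7 ≤ finrank F V)
    (X : Gam Q) (hX : orderOf (Psi Q X) = 3) : ∃ X₁ : Gam Q, Psi Q X₁ = Psi Q X ∧ Fr Q (q6 F) X₁.1 := by
  have := Fintype.ofFinite F
  have hp : Psi Q X ^ 3 = 1 := by rw [← hX, pow_orderOf_eq_one]
  obtain ⟨a, ha⟩ := exists_scal hG (M := X ^ 3) (by rw [map_pow, hp])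
  have hXp : IsScal F (X.1 ^ 3) := by
    refine ⟨a, fun v => ?_⟩
    have h1 : (X ^ 3).1 v = (scal Q a).1 v := by rw [ha]
    exact h1
  have hne : Psi Q X ≠ 1 := by
    intro h1
    rw [h1, orderOf_one] at hX
    norm_num at hX
  have key : ∀ {z : Equiv.Perm V} (hz : z ∈ Gam Q), Scl F z X.1 → Psi Q ⟨z, hz⟩ = Psi Q X := by
    rintro z hz ⟨s, hs, hsz⟩
    have h1 : (⟨z, hz⟩ : Gam Q) = scal Q (Units.mk0 s hs) * X := by
      apply Subtype.ext
      ext v
      exact hsz v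
    rw [h1, map_mul, Psi_scal hG, one_mul]
  have hXn : ¬ IsScal F X.1 := by
    rintro ⟨b, hb⟩
    apply hne
    have hb0 : b ≠ 0 := by
      rintro rfl
      obtain ⟨x, hx0, -⟩ := hG.sing
      apply hx0
      apply X.1.injective
      rw [hb, hb, zero_smul, zero_smul]
    have h1 : X = scal Q (Units.mk0 b hb0) := by
      apply Subtype.ext
      ext v
      exact hb v
    rw [h1, Psi_scal hG]
  rcases Cfsg.Agent.H862.T5.ORow.exists_norm Nat.prime_three (by norm_num) hG X hXp hXn with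
    ⟨g, ⟨hg, hg3, hg1⟩, hs⟩ | ⟨σ, M, ⟨⟨c, hc⟩, hσ1, hσ, hM3⟩, hs⟩
  · exact ⟨ofO g hg, key _ hs, fr_lin h3 hG.nondeg h7 hg hg3 hg1⟩
  · exact ⟨⟨M, σ, c, hc⟩, key _ hs, fr_nl h3 hG.nondeg h7 hσ1 hσ hc hM3⟩

/-- **No pair of semisimilitudes.** -/
theorem false_of_gam (h : Cfg 3 S C D) [Finite F] [FiniteDimensional F V] (hG : Good Q) (h3 : (3 : F) ≠ 0)
    (h7 : 7 ≤ finrank F V) (e : S ≃* P Q) {c d : G} (hc : c ∈ C) (hd : d ∈ D) {φ ψ : MulAut (P Q)}
    (hφ : Ind e c φ) (hψ : Ind e d ψ) (hφP : φ ∈ (Psi Q).range) (hψP : ψ ∈ (Psi Q).range) : False := by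
  have : Fact (Nat.Prime 3) := ⟨Nat.prime_three⟩
  obtain ⟨X, rfl⟩ := hφP
  obtain ⟨Y, rfl⟩ := hψP
  obtain ⟨X₁, hX₁, fX⟩ := exists_fr hG h3 h7 X (hφ.orderOf_eq h.normal h.cent (h.ordC c hc))
  obtain ⟨Y₁, hY₁, fY⟩ := exists_fr hG h3 h7 Y (hψ.orderOf_eq h.normal h.cent (h.ordD d hd))
  rw [← hX₁] at hφ
  rw [← hY₁] at hψ
  exact false_of_fr h hG h3 h7 e hc hd X₁ Y₁ hφ hψ fX fY

/-- all automorphisms of order three are semisimilitudes -/
theorem false_of_range (h : Cfg 3 S C D) [Finite F] [FiniteDimensional F V] (hG : Good Q) (h3 : (3 : F) ≠ 0)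
    (h7 : 7 ≤ finrank F V) (e : S ≃* P Q) (hr : ∀ φ : MulAut (P Q), orderOf φ = 3 → φ ∈ (Psi Q).range) : False := by
  have : Fact (Nat.Prime 3) := ⟨Nat.prime_three⟩
  obtain ⟨c, hc⟩ := h.neC
  obtain ⟨d, hd⟩ := h.neD
  obtain ⟨φ, hφ⟩ := exists_ind h.normal e c
  obtain ⟨ψ, hψ⟩ := exists_ind h.normal e d
  exact false_of_gam h hG h3 h7 e hc hd hφ hψ (hr φ (hφ.orderOf_eq h.normal h.cent (h.ordC c hc)))
    (hr ψ (hψ.orderOf_eq h.normal h.cent (h.ordD d hd)))

end pair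

/-! ### the rows -/

section rows

open Cfsg Cfsg.Agent.ClassicalGeometry.OrthSemiForms Cfsg.Agent.LieClassical.OrthForms

theorem three_ne {F : Type*} [Field F] {r : ℕ} [CharP F r] (hr : r ≠ 3) : (3 : F) ≠ 0 := by
  intro h
  have h1 : r ∣ 3 := (CharP.cast_eq_zero_iff F r 3).1 (by exact_mod_cast h)
  rcases (Nat.dvd_prime Nat.prime_three).1 h1 with h2 | h2
  · subst h2
    exact CharP.ringChar_ne_one (R := F) (ringChar.eq F 1)
  · exact hr h2

/-- **`PΩ_{2m+1}(q)`** -/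
theorem wf_omega_odd {K : Type v} [Group K] {r : ℕ} (h : Cfsg.IsPOmegaOddChar r K) (hr : r ≠ 3) :
    WfRow.{u, v} 3 K := by
  rintro G _ _ S C D hcfg ⟨f⟩
  obtain ⟨F, _, _, _, m, hm, hodd, ⟨e⟩⟩ := h
  have h2 : (2 : F) ≠ 0 := by
    intro h
    have h3 : CharP F 2 := CharTwo.of_one_ne_zero_of_two_eq_zero one_ne_zero h
    have h4 := FiniteField.even_card_iff_char_two.1 (ringChar.eq F 2 ▸ rfl : ringChar F = 2)
    rw [Nat.odd_iff] at hodd
    omega
  have htop := MonoidHom.range_eq_top.2 (Cfsg.Agent.AutOrth.Final.surjective_odd (F := F) hm h2)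
  have h7 : 7 ≤ finrank F (Unit ⊕ Fin m ⊕ Fin m → F) := by
    rw [Module.finrank_fintype_fun_eq_card, Fintype.card_sum, Fintype.card_sum, Fintype.card_fin, Fintype.card_unit]
    omega
  have hG := Cfsg.Agent.LieClassical.OrthFinite.good_of_finite (nondeg_oddForm m F h2) (by omega)
  have key : (K ≃* POmega F (quadFormOdd m F)) → False := by
    rw [← Cfsg.Agent.LieClassical.OrthForms.coe_oddForm]
    intro e
    exact false_of_range hcfg hG (three_ne hr) h7 ((f.trans e).trans (pomegaEquiv hG)) fun φ _ => by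
      rw [htop]; exact Subgroup.mem_top φ
  exact key e

/-- **`PΩ⁻_{2m}(q)`** -/
theorem wf_omega_minus {K : Type v} [Group K] {r : ℕ} (h : Cfsg.IsPOmegaMinusChar r K) (hr : r ≠ 3) :
    WfRow.{u, v} 3 K := by
  rintro G _ _ S C D hcfg ⟨f⟩
  obtain ⟨F, _, _, _, m, a, b, hm, hab, ⟨e⟩⟩ := h
  have htop := MonoidHom.range_eq_top.2
    (Cfsg.Agent.AutOrth.Final.surjective_minus (F := F) (m := m - 1) (by omega) hab)
  have h7 : 7 ≤ finrank F ((Fin (m - 1) ⊕ Fin (m - 1)) ⊕ Fin 2 → F) := by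
    rw [Module.finrank_fintype_fun_eq_card, Fintype.card_sum, Fintype.card_sum, Fintype.card_fin, Fintype.card_fin]
    omega
  have hG := Cfsg.Agent.LieClassical.OrthFinite.good_of_finite (nondeg_minusForm (m - 1) F a b hab) (by omega)
  have key : (K ≃* POmega F (quadFormMinus (m - 1) F a b)) → False := by
    rw [← coe_minusForm]
    intro e
    exact false_of_range hcfg hG (three_ne hr) h7 ((f.trans e).trans (pomegaEquiv hG)) fun φ _ => by
      rw [htop]; exact Subgroup.mem_top φ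
  exact key e

/-- **`PΩ⁺_{2m}(q)`, `m ≥ 5`** -/
theorem wf_omega_plus {K : Type v} [Group K] {F : Type} [Field F] [Fintype F] {m : ℕ} (hm : 5 ≤ m)
    (e : Nonempty (K ≃* Cfsg.POmega F (Cfsg.quadFormPlus m F))) (h3 : (3 : F) ≠ 0) : WfRow.{u, v} 3 K := by
  rintro G _ _ S C D hcfg ⟨f⟩
  obtain ⟨e⟩ := e
  have htop := MonoidHom.range_eq_top.2 (Cfsg.Agent.AutOrth.Final.surjective_plus (F := F) (m := m) (by omega))
  have h7 : 7 ≤ finrank F (Fin m ⊕ Fin m → F) := by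
    rw [Module.finrank_fintype_fun_eq_card, Fintype.card_sum, Fintype.card_fin]
    omega
  have hG := Cfsg.Agent.LieClassical.OrthFinite.good_of_finite (nondeg_plusForm m F) (by omega)
  have key : (K ≃* POmega F (quadFormPlus m F)) → False := by
    rw [← coe_plusForm]
    intro e
    exact false_of_range hcfg hG h3 h7 ((f.trans e).trans (pomegaEquiv hG)) fun φ _ => by
      rw [htop]; exact Subgroup.mem_top φ
  exact key e

theorem good_four (F : Type*) [Field F] [Finite F] : Good (plusForm 4 F) :=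
  Cfsg.Agent.LieClassical.OrthFinite.good_of_finite (nondeg_plusForm 4 F)
    (by rw [Module.finrank_fintype_fun_eq_card, Fintype.card_sum, Fintype.card_fin]; norm_num)

/-- **`PΩ⁺_8(q)`**: no pair of semisimilitudes (the model `E Q / Z(E Q)`). -/
theorem false_of_four {G : Type u} [Group G] [Finite G] {S : Subgroup G} {C D : Set G} (h : Cfg 3 S C D)
    {F : Type} [Field F] [Finite F] (h3 : (3 : F) ≠ 0) (e : S ≃* P (plusForm 4 F)) {c d : G} (hc : c ∈ C)
    (hd : d ∈ D) {φ ψ : MulAut (P (plusForm 4 F))} (hφ : Ind e c φ) (hψ : Ind e d ψ)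
    (hφP : φ ∈ (Psi (plusForm 4 F)).range) (hψP : ψ ∈ (Psi (plusForm 4 F)).range) : False :=
  false_of_gam h (good_four F) h3
    (by rw [Module.finrank_fintype_fun_eq_card, Fintype.card_sum, Fintype.card_fin]; norm_num) e hc hd hφ hψ hφP hψP

/-- The elements of `C` act as semisimilitudes on `PΩ⁺_8(q)`, `3 ∤ q` (task 4026). -/
def TriRow : Prop :=
  ∀ {F : Type} [Field F] [Finite F] (_ : (3 : F) ≠ 0) {G : Type u} [Group G] [Finite G] {S : Subgroup G}
    {C D : Set G} (_ : Cfg 3 S C D) (e : S ≃* P (plusForm 4 F)) {c : G} (_ : c ∈ C) {φ : MulAut (P (plusForm 4 F))}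
    (_ : Ind e c φ), φ ∈ (Psi (plusForm 4 F)).range

/-- **`PΩ⁺_8(q)`** -/
theorem wf_omega_four (hT : TriRow.{u}) {K : Type v} [Group K] {F : Type} [Field F] [Fintype F]
    (e : Nonempty (K ≃* Cfsg.POmega F (Cfsg.quadFormPlus 4 F))) (h3 : (3 : F) ≠ 0) : WfRow.{u, v} 3 K := by
  rintro G _ _ S C D hcfg ⟨f⟩
  obtain ⟨e⟩ := e
  obtain ⟨c, hc⟩ := hcfg.neC
  obtain ⟨d, hd⟩ := hcfg.neD
  have key : (K ≃* POmega F (quadFormPlus 4 F)) → False := by
    rw [← coe_plusForm]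
    intro e
    let e' := (f.trans e).trans (pomegaEquiv (good_four F))
    obtain ⟨φ, hφ⟩ := exists_ind hcfg.normal e' c
    obtain ⟨ψ, hψ⟩ := exists_ind hcfg.normal e' d
    exact false_of_four hcfg h3 e' hc hd hφ hψ (hT h3 hcfg e' hc hφ) (hT h3 hcfg.symm e' hd hψ)
  exact key e

/-- **Orthogonal groups, cross characteristic.** -/
theorem wf_omega_cross (hT : TriRow.{u}) {K : Type v} [Group K] {r : ℕ} (hr : r ≠ 3)
    (h : Cfsg.IsPOmegaOddChar r K ∨ Cfsg.IsPOmegaPlusChar r K ∨ Cfsg.IsPOmegaMinusChar r K) :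
    WfRow.{u, v} 3 K := by
  rcases h with h | h | h
  · exact wf_omega_odd h hr
  · obtain ⟨F, _, _, _, m, hm, e⟩ := h
    rcases Nat.lt_or_ge m 5 with h5 | h5
    · have h4 : m = 4 := by omega
      subst h4
      exact wf_omega_four hT e (three_ne hr)
    · exact wf_omega_plus h5 e (three_ne hr)
  · exact wf_omega_minus h hr

end rows

end Cfsg.Agent.H313.WfOm
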